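/-
In odd characteristic and dimension `2m+1`, `m ≥ 3`: the centre of `Ω` is trivial and `PΩ` has at
least `m` classes of involutions.
-/
import Cfsg.Agent.Lib.Orth52.Spinor
import Cfsg.Agent.Lib.Orth52.NegPairs
import Cfsg.Agent.Lib.Forms.Bridge

set_option autoImplicit false

namespace Cfsg.Agent.Lib.ClassicalIso

open Module QuadraticMap
open Cfsg.Agent.Lib.Forms Cfsg.Agent.Lib.Orth52

section General

variable {F : Type*} [Field F] {V : Type*} [AddCommGroup V] [Module F V] {Q : QuadraticForm F V}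

/-- The negated space of an orthogonal map. -/
abbrev negOf (g : orth Q) : Submodule F V := LinearMap.ker (g.1.toLinearMap + LinearMap.id)

theorem mem_negOf {g : orth Q} {v : V} : v ∈ negOf g ↔ g.1 v = -v := by
  simp [add_eq_zero_iff_eq_neg]

/-- The negated space of a product of orthogonal reflections is their span. -/
theorem negOf_oreflProd (h2 : (2 : F) ≠ 0) {k : ℕ} (f : Fin k → V) (hQ : ∀ i, Q (f i) ≠ 0)
    (ho : ∀ i j, i ≠ j → polar Q (f i) (f j) = 0) :
    negOf (oreflProd Q (List.ofFn f)) = Submodule.span F (Set.range f) := by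
  have hvs : ∀ v ∈ List.ofFn f, Q v ≠ 0 := by
    intro v hv; obtain ⟨i, rfl⟩ := List.mem_ofFn.1 hv; exact hQ i
  have hpw : (List.ofFn f).Pairwise fun v w => polar Q v w = 0 :=
    List.pairwise_ofFn.2 fun i j h => ho i j h.ne
  have hneg : ∀ i, (oreflProd Q (List.ofFn f)).1 (f i) = -f i := fun i =>
    oreflProd_neg _ hvs hpw (List.mem_ofFn.2 ⟨i, rfl⟩)
  refine le_antisymm (fun x hx => ?_) (Submodule.span_le.2 ?_)
  · rw [mem_negOf] at hx
    set s := ∑ i, (polar Q (f i) x / polar Q (f i) (f i)) • f i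
    have hs : s ∈ Submodule.span F (Set.range f) :=
      Submodule.sum_mem _ fun i _ => Submodule.smul_mem _ _ (Submodule.subset_span ⟨i, rfl⟩)
    have hr : ∀ v ∈ List.ofFn f, polar Q v (x - s) = 0 := by
      intro v hv
      obtain ⟨j, rfl⟩ := List.mem_ofFn.1 hv
      have hne : polar Q (f j) (f j) ≠ 0 := by rw [polar_self']; exact mul_ne_zero h2 (hQ j)
      rw [polar_sub_right, show polar Q (f j) s = polar Q (f j) x from ?_, sub_self]
      rw [show polar Q (f j) s = Q.polarBilin (f j) s from rfl, map_sum, Finset.sum_eq_single j]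
      · rw [map_smul, smul_eq_mul]
        exact div_mul_cancel₀ _ hne
      · intro i _ hij
        rw [map_smul, show Q.polarBilin (f j) (f i) = 0 from ho j i hij.symm, smul_zero]
      · simp
    have hfix := oreflProd_fix _ hr
    rw [map_sub, hx, show (oreflProd Q (List.ofFn f)).1 s = -s by
      simp only [s, map_sum, map_smul, hneg, smul_neg, Finset.sum_neg_distrib]] at hfix
    have h0 : (2 : F) • (x - s) = 0 := by
      rw [two_smul]; nth_rw 1 [← hfix]; abel
    rw [sub_eq_zero.1 ((smul_eq_zero.1 h0).resolve_left h2)]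
    exact hs
  · rintro _ ⟨i, rfl⟩
    exact mem_negOf.2 (hneg i)

theorem indep_of_orth (h2 : (2 : F) ≠ 0) {ι : Type*} [Fintype ι] (f : ι → V)
    (hQ : ∀ i, Q (f i) ≠ 0) (ho : ∀ i j, i ≠ j → polar Q (f i) (f j) = 0) :
    LinearIndependent F f := by
  classical
  rw [Fintype.linearIndependent_iff]
  intro c hc j
  have h := congrArg (Q.polarBilin (f j)) hc
  rw [map_sum, map_zero, Finset.sum_eq_single j] at h
  · rw [map_smul, smul_eq_mul] at h
    refine (mul_eq_zero.1 h).resolve_right ?_
    show polar Q (f j) (f j) ≠ 0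
    rw [polar_self']; exact mul_ne_zero h2 (hQ j)
  · intro i _ hij
    rw [map_smul, show Q.polarBilin (f j) (f i) = 0 from ho j i hij.symm, smul_zero]
  · simp

theorem negOf_conj (g h : orth Q) :
    negOf (g * h * g⁻¹) = (negOf h).map g.1.toLinearMap := by
  have hgg : ∀ v, g.1 ((g⁻¹ : orth Q).1 v) = v := fun v => g.1.apply_symm_apply v
  ext v
  rw [Submodule.mem_map_equiv, mem_negOf, mem_negOf]
  show g.1 (h.1 (g⁻¹.1 v)) = -v ↔ h.1 (g⁻¹.1 v) = -(g⁻¹.1 v)
  constructor
  · intro hv
    apply g.1.injective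
    rw [hv, map_neg, hgg]
  · intro hv
    rw [hv, map_neg, hgg]

theorem finrank_negOf_eq_of_isConj {g h : orth Q} (hc : IsConj g h) :
    finrank F (negOf g) = finrank F (negOf h) := by
  obtain ⟨k, hk⟩ := isConj_iff.1 hc
  rw [← hk, negOf_conj]
  exact (LinearEquiv.finrank_map_eq k.1 _).symm

end General

section Model

variable {F : Type*} [Field F] {m : ℕ}

/-- An orthogonal basis of the odd model: norms `1`, `1`, `-1`. -/
def fam (m : ℕ) (F : Type*) [Field F] :
    Unit ⊕ (Fin m ⊕ Fin m) → (Unit ⊕ (Fin m ⊕ Fin m) → F)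
  | .inl _ => Sum.elim 1 0
  | .inr (.inl j) => Sum.elim 0 (Sum.elim (Pi.single j 1) (Pi.single j 1))
  | .inr (.inr j) => Sum.elim 0 (Sum.elim (Pi.single j 1) (Pi.single j (-1)))

/-- The norms of the basis. -/
def famVal (F : Type*) [Field F] {m : ℕ} : Unit ⊕ (Fin m ⊕ Fin m) → F
  | .inr (.inr _) => -1
  | _ => 1

theorem qOddFn_eval (m : ℕ) (v : Unit ⊕ (Fin m ⊕ Fin m) → F) :
    qOddFn m v = v (.inl ()) ^ 2 + ∑ i : Fin m, v (.inr (.inl i)) * v (.inr (.inr i)) := by
  rw [← qOddFn_apply]; rfl

theorem qOddFn_fam (i : Unit ⊕ (Fin m ⊕ Fin m)) : qOddFn (F := F) m (fam m F i) = famVal F i := by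
  rw [qOddFn_eval]
  rcases i with u | j | j <;> simp [fam, famVal, Pi.single_apply]

theorem polar_fam {i j : Unit ⊕ (Fin m ⊕ Fin m)} (h : i ≠ j) :
    polar (qOddFn (F := F) m) (fam m F i) (fam m F j) = 0 := by
  simp only [polar, qOddFn_eval, Pi.add_apply]
  rcases i with u | i | i <;> rcases j with u' | j | j
  · exact absurd rfl h
  all_goals simp [fam, Pi.single_apply, Finset.sum_add_distrib, mul_add]
  all_goals (rcases eq_or_ne i j with rfl | hij <;> simp_all [Ne.symm])

theorem famVal_ne (i : Unit ⊕ (Fin m ⊕ Fin m)) : famVal F i ≠ 0 := by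
  rcases i with u | j | j <;> simp [famVal]

variable [Finite F]

/-- The product of the reflections in a selection from the basis. -/
noncomputable def selProd (m : ℕ) (F : Type*) [Field F] {k : ℕ}
    (s : Fin k → Unit ⊕ (Fin m ⊕ Fin m)) : orth (qOddFn (F := F) m) :=
  oreflProd _ (List.ofFn fun i => fam m F (s i))

theorem finrank_std_odd (m : ℕ) :
    finrank F (Unit ⊕ (Fin m ⊕ Fin m) → F) = 2 * m + 1 := by
  rw [Module.finrank_fintype_fun_eq_card]; simp; omega

theorem selProd_mem (h2 : (2 : F) ≠ 0) (hm : 1 ≤ m) {k : ℕ}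
    (s : Fin k → Unit ⊕ (Fin m ⊕ Fin m)) (hk : Even k) (hsq : IsSquare (∏ i, famVal F (s i))) :
    selProd m F s ∈ commutator (orth (qOddFn (F := F) m)) := by
  have hvs : ∀ v ∈ List.ofFn (fun i => fam m F (s i)), qOddFn (F := F) m v ≠ 0 := by
    intro v hv; obtain ⟨i, rfl⟩ := List.mem_ofFn.1 hv
    rw [qOddFn_fam]; exact famVal_ne _
  refine (oreflProd_mem_commutator_iff (qOddFn_nondeg m h2) h2
    (by rw [finrank_std_odd]; omega) _ hvs).2 ⟨by rw [List.length_ofFn]; exact hk, ?_⟩
  rw [List.map_ofFn, List.prod_ofFn]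
  simpa [Function.comp_def, qOddFn_fam] using hsq

theorem negOf_selProd (h2 : (2 : F) ≠ 0) {k : ℕ} (s : Fin k → Unit ⊕ (Fin m ⊕ Fin m))
    (hs : Function.Injective s) :
    negOf (selProd m F s) = Submodule.span F (Set.range fun i => fam m F (s i)) :=
  negOf_oreflProd h2 _ (fun i => by rw [qOddFn_fam]; exact famVal_ne _)
    fun i j h => polar_fam (hs.ne h)

theorem finrank_negOf_selProd (h2 : (2 : F) ≠ 0) {k : ℕ} (s : Fin k → Unit ⊕ (Fin m ⊕ Fin m))
    (hs : Function.Injective s) : finrank F (negOf (selProd m F s)) = k := by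
  rw [negOf_selProd h2 s hs, finrank_span_eq_card (indep_of_orth (Q := qOddFn (F := F) m) h2
    (fun i => fam m F (s i)) (fun i => by rw [qOddFn_fam]; exact famVal_ne _)
    fun i j h => polar_fam (hs.ne h)), Fintype.card_fin]

/-- A selection of `2k` basis vectors whose reflection product lies in the commutator subgroup. -/
theorem exists_selection {k : ℕ} (hk1 : 1 ≤ k) (hkm : k ≤ m) :
    ∃ s : Fin (2 * k) → Unit ⊕ (Fin m ⊕ Fin m), Function.Injective s ∧
      IsSquare (∏ i, famVal F (s i)) := by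
  classical
  have key : ∃ T : Finset (Unit ⊕ (Fin m ⊕ Fin m)), T.card = 2 * k ∧ IsSquare (∏ i ∈ T, famVal F i) := by
    rcases Nat.even_or_odd k with ⟨r, hr⟩ | ⟨r, hr⟩
    · -- k pairs
      let T : Finset (Unit ⊕ (Fin m ⊕ Fin m)) :=
        ((Finset.univ.map (Fin.castLEEmb hkm)).disjSum
          (Finset.univ.map (Fin.castLEEmb hkm))).map ⟨Sum.inr, Sum.inr_injective⟩
      refine ⟨T, by simp [T]; omega, ?_⟩
      simp only [T, Finset.prod_map, Function.Embedding.coeFn_mk, Finset.prod_disjSum, famVal,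
        Finset.prod_const, Finset.card_map, Finset.card_univ, Fintype.card_fin, one_pow, one_mul]
      exact ⟨(-1) ^ r, by rw [← pow_add]; exact congrArg _ hr⟩
    · -- the anisotropic vector, k norm-one vectors and k-1 norm minus one vectors
      let T₀ : Finset (Fin m ⊕ Fin m) :=
        (Finset.univ.map (Fin.castLEEmb hkm)).disjSum
          (Finset.univ.map (Fin.castLEEmb (show k - 1 ≤ m by omega)))
      let T : Finset (Unit ⊕ (Fin m ⊕ Fin m)) := (Finset.univ : Finset Unit).disjSum T₀
      refine ⟨T, by simp [T, T₀]; omega, ?_⟩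
      simp only [T, T₀, Finset.prod_map, Finset.prod_disjSum, famVal, Finset.prod_const,
        Finset.card_map, Finset.card_univ, Fintype.card_fin, one_pow, one_mul]
      exact ⟨(-1) ^ r, by rw [← pow_add]; exact congrArg _ (by omega)⟩
  obtain ⟨T, hT, hsq⟩ := key
  refine ⟨fun i => (T.equivFinOfCardEq hT).symm i,
    Subtype.val_injective.comp (T.equivFinOfCardEq hT).symm.injective, ?_⟩
  rw [Equiv.prod_comp (T.equivFinOfCardEq hT).symm (fun x : T => famVal F (x : Unit ⊕ (Fin m ⊕ Fin m))),
    Finset.prod_coe_sort T (famVal F)]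
  exact hsq

/-- The centre of the commutator subgroup is trivial. -/
theorem center_commutator_trivial (h2 : (2 : F) ≠ 0) (hm : 3 ≤ m)
    {z : orth (qOddFn (F := F) m)} (hz : z ∈ commutator (orth (qOddFn (F := F) m)))
    (hc : ∀ g ∈ commutator (orth (qOddFn (F := F) m)), g * z = z * g) : z = 1 := by
  classical
  set f := fam m F
  have hn : 2 ≤ finrank F (Unit ⊕ (Fin m ⊕ Fin m) → F) := by rw [finrank_std_odd]; omega
  have hnd : Nondeg (qOddFn (F := F) m) := qOddFn_nondeg m h2
  -- z preserves the span of any pair whose product is in the commutator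
  have hpair : ∀ a b, polar (qOddFn (F := F) m) a b = 0 → (qOddFn (F := F) m) a ≠ 0 → (qOddFn (F := F) m) b ≠ 0 → IsSquare ((qOddFn (F := F) m) a * (qOddFn (F := F) m) b) →
      z.1 a ∈ Submodule.span F {a, b} := by
    intro a b hab ha hb hsq
    have hvs : ∀ v ∈ List.ofFn ![a, b], (qOddFn (F := F) m) v ≠ 0 := by simp [ha, hb]
    have hmem : oreflProd (qOddFn (F := F) m) (List.ofFn ![a, b]) ∈ commutator (orth (qOddFn (F := F) m)) := by
      refine (oreflProd_mem_commutator_iff hnd h2 hn _ hvs).2 ⟨by simp, ?_⟩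
      simpa using hsq
    have hne := negOf_oreflProd h2 (Q := qOddFn (F := F) m) ![a, b]
      (fun i => by fin_cases i <;> simp [ha, hb])
      (fun i j h => by fin_cases i <;> fin_cases j <;> simp_all [polar_comm (qOddFn (F := F) m) b a])
    have hab' : Set.range ![a, b] = {a, b} := by simp [Set.pair_comm]
    rw [← hab', ← hne, mem_negOf]
    have h1 : (oreflProd (qOddFn (F := F) m) (List.ofFn ![a, b])).1 a = -a :=
      mem_negOf.1 (hne ▸ Submodule.subset_span ⟨0, rfl⟩)
    have h := congrArg (fun g : orth (qOddFn (F := F) m) => g.1 a) (hc _ hmem)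
    show (oreflProd (qOddFn (F := F) m) (List.ofFn ![a, b])).1 (z.1 a) = -z.1 a
    calc _ = z.1 ((oreflProd (qOddFn (F := F) m) (List.ofFn ![a, b])).1 a) := h
      _ = _ := by rw [h1, map_neg]
  have hQ : ∀ i, (qOddFn (F := F) m) (f i) ≠ 0 := fun i => by rw [qOddFn_fam]; exact famVal_ne _
  have hpo : ∀ {i j}, i ≠ j → polar (qOddFn (F := F) m) (f i) (f j) = 0 := fun h => polar_fam h
  -- two pairs through a vector with the other ends distinct
  have hline : ∀ i j j', i ≠ j → i ≠ j' → j ≠ j' → IsSquare (famVal F i * famVal F j) →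
      IsSquare (famVal F i * famVal F j') → ∃ s : F, z.1 (f i) = s • f i := by
    intro i j j' hij hij' hjj' hs hs'
    obtain ⟨a, b, hab⟩ := Submodule.mem_span_pair.1
      (hpair (f i) (f j) (hpo hij) (hQ i) (hQ j) (by rwa [qOddFn_fam, qOddFn_fam]))
    obtain ⟨a', b', hab'⟩ := Submodule.mem_span_pair.1
      (hpair (f i) (f j') (hpo hij') (hQ i) (hQ j') (by rwa [qOddFn_fam, qOddFn_fam]))
    refine ⟨a, ?_⟩
    have h := congrArg ((qOddFn (F := F) m).polarBilin (f j)) (hab.trans hab'.symm)
    simp only [map_add, map_smul, QuadraticMap.polarBilin_apply_apply, hpo hij.symm, hpo hjj',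
      smul_eq_mul, mul_zero, zero_add, add_zero] at h
    have hb : b = 0 := (mul_eq_zero.1 h).resolve_right (by rw [polar_self']; exact mul_ne_zero h2 (hQ j))
    rw [← hab, hb, zero_smul, add_zero]
  have i0 : Fin m := ⟨0, by omega⟩
  have other : ∀ j : Fin m, ∃ k l : Fin m, j ≠ k ∧ j ≠ l ∧ k ≠ l := by
    intro j
    have h : 2 ≤ (Finset.univ.erase j).card := by
      rw [Finset.card_erase_of_mem (Finset.mem_univ _), Finset.card_univ, Fintype.card_fin]; omega
    obtain ⟨k, hk, l, hl, hkl⟩ := Finset.one_lt_card.1 (show 1 < (Finset.univ.erase j).card by omega)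
    simp only [Finset.mem_erase, Finset.mem_univ, and_true] at hk hl
    exact ⟨k, l, hk.symm, hl.symm, hkl⟩
  have hscal : ∀ i, ∃ s : F, z.1 (f i) = s • f i := by
    intro i
    rcases i with u | j | j
    · obtain ⟨k, l, -, -, hkl⟩ := other i0
      exact hline _ (.inr (.inl k)) (.inr (.inl l)) (by simp) (by simp) (by simpa using hkl)
        (by simp [famVal]) (by simp [famVal])
    · obtain ⟨k, l, hk, hl, hkl⟩ := other j
      exact hline _ (.inr (.inl k)) (.inr (.inl l)) (by simpa using hk) (by simpa using hl)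
        (by simpa using hkl) (by simp [famVal]) (by simp [famVal])
    · obtain ⟨k, l, hk, hl, hkl⟩ := other j
      exact hline _ (.inr (.inr k)) (.inr (.inr l)) (by simpa using hk) (by simpa using hl)
        (by simpa using hkl) (by simp [famVal]) (by simp [famVal])
  choose s hs using hscal
  -- a norm one combination of three vectors
  have hall : ∀ j k : Fin m, j ≠ k → ∀ l : Fin m,
      s (.inl ()) = s (.inr (.inl j)) ∧ s (.inl ()) = s (.inr (.inr l)) := by
    intro j k hjk l
    set a := f (.inl ()) + f (.inr (.inl j)) + f (.inr (.inr l))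
    set b := f (.inr (.inl k))
    have hQa : (qOddFn (F := F) m) a = 1 := by
      simp only [a, Q_add, polar_add_left, qOddFn_fam, famVal, f,
        hpo (show (Sum.inl () : Unit ⊕ (Fin m ⊕ Fin m)) ≠ .inr (.inl j) by simp),
        hpo (show (Sum.inl () : Unit ⊕ (Fin m ⊕ Fin m)) ≠ .inr (.inr l) by simp),
        hpo (show (Sum.inr (.inl j) : Unit ⊕ (Fin m ⊕ Fin m)) ≠ .inr (.inr l) by simp)]
      ring
    have hab : polar (qOddFn (F := F) m) a b = 0 := by
      simp only [a, b, polar_add_left,
        hpo (show (Sum.inl () : Unit ⊕ (Fin m ⊕ Fin m)) ≠ .inr (.inl k) by simp),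
        hpo (show (Sum.inr (.inl j) : Unit ⊕ (Fin m ⊕ Fin m)) ≠ .inr (.inl k) by simpa using hjk),
        hpo (show (Sum.inr (.inr l) : Unit ⊕ (Fin m ⊕ Fin m)) ≠ .inr (.inl k) by simp), add_zero]
    obtain ⟨x, y, hxy⟩ := Submodule.mem_span_pair.1 (hpair a b hab (by rw [hQa]; exact one_ne_zero)
      (hQ _) (by rw [hQa, one_mul, qOddFn_fam]; simp [famVal]))
    simp only [a, b, map_add, hs, smul_add] at hxy
    have get : ∀ w, polar (qOddFn (F := F) m) (f w) (f w) ≠ 0 := fun w => by
      rw [polar_self']; exact mul_ne_zero h2 (hQ w)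
    have co : ∀ w, _ := fun w => congrArg ((qOddFn (F := F) m).polarBilin (f w)) hxy
    have c1 := co (.inl ())
    have c2 := co (.inr (.inl j))
    have c3 := co (.inr (.inr l))
    simp only [map_add, map_smul, QuadraticMap.polarBilin_apply_apply, smul_eq_mul,
      hpo (show (Sum.inl () : Unit ⊕ (Fin m ⊕ Fin m)) ≠ .inr (.inl j) by simp),
      hpo (show (Sum.inl () : Unit ⊕ (Fin m ⊕ Fin m)) ≠ .inr (.inr l) by simp),
      hpo (show (Sum.inl () : Unit ⊕ (Fin m ⊕ Fin m)) ≠ .inr (.inl k) by simp),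
      hpo (show (Sum.inr (.inl j) : Unit ⊕ (Fin m ⊕ Fin m)) ≠ .inl () by simp),
      hpo (show (Sum.inr (.inl j) : Unit ⊕ (Fin m ⊕ Fin m)) ≠ .inr (.inr l) by simp),
      hpo (show (Sum.inr (.inl j) : Unit ⊕ (Fin m ⊕ Fin m)) ≠ .inr (.inl k) by simpa using hjk),
      hpo (show (Sum.inr (.inr l) : Unit ⊕ (Fin m ⊕ Fin m)) ≠ .inl () by simp),
      hpo (show (Sum.inr (.inr l) : Unit ⊕ (Fin m ⊕ Fin m)) ≠ .inr (.inl j) by simp),
      hpo (show (Sum.inr (.inr l) : Unit ⊕ (Fin m ⊕ Fin m)) ≠ .inr (.inl k) by simp),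
      mul_zero, add_zero, zero_add] at c1 c2 c3
    have e1 := mul_right_cancel₀ (get _) c1
    have e2 := mul_right_cancel₀ (get _) c2
    have e3 := mul_right_cancel₀ (get _) c3
    exact ⟨e1.symm.trans e2, e1.symm.trans e3⟩
  have hconst : ∀ i, s i = s (.inl ()) := by
    intro i
    rcases i with u | j | j
    · rfl
    · obtain ⟨k, -, hk, -, -⟩ := other j
      exact (hall j k hk j).1.symm
    · obtain ⟨k, -, hk, -, -⟩ := other j
      exact (hall j k hk j).2.symm
  have hsq : s (.inl ()) ^ 2 = 1 := by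
    have h := z.2 (f (.inl ()))
    rw [hs, Q_smul, qOddFn_fam] at h
    rw [_root_.sq]
    simpa [famVal, mul_self_eq_one_iff] using h
  have hli : LinearIndependent F f := indep_of_orth h2 f hQ fun i j h => hpo h
  have hsp : Submodule.span F (Set.range f) = ⊤ :=
    hli.span_eq_top_of_card_eq_finrank' (by rw [Module.finrank_fintype_fun_eq_card])
  have hzs : ∀ v, z.1 v = s (.inl ()) • v := fun v => by
    obtain ⟨c, rfl⟩ := (Submodule.mem_span_range_iff_exists_fun F).1
      (show v ∈ Submodule.span F (Set.range f) by rw [hsp]; trivial)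
    simp only [map_sum, map_smul, hs, hconst, Finset.smul_sum]
    exact Finset.sum_congr rfl fun i _ => smul_comm _ _ _
  rcases sq_eq_one_iff.1 hsq with h1 | h1
  · exact Subtype.ext (LinearEquiv.ext fun v => by rw [hzs, h1, one_smul]; rfl)
  · exfalso
    -- `-1` has odd Dickson invariant
    have hd := ((mem_commutator_iff_spin hnd h2 hn z).1 hz).1
    obtain ⟨g, hg⟩ := (isoOrth (qOddFn (F := F) m) (fun _ => rfl)).surjective z
    have hdet := (det_orth_eq (qOddFn (F := F) m) hnd h2 g).2 (by rw [hg]; exact hd)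
    have hM : (g.1.1 : Matrix (Unit ⊕ (Fin m ⊕ Fin m)) (Unit ⊕ (Fin m ⊕ Fin m)) F) = -1 := by
      apply Matrix.ext_of_mulVec_single
      intro i
      rw [← isoOrth_apply (qOddFn (F := F) m) (fun _ => rfl) g, hg, hzs, h1, Matrix.neg_mulVec, Matrix.one_mulVec,
        neg_one_smul]
    rw [hM, Matrix.det_neg, Matrix.det_one, mul_one] at hdet
    simp only [Fintype.card_sum, Fintype.card_unit, Fintype.card_fin] at hdet
    rw [show 1 + (m + m) = 2 * m + 1 by omega, pow_succ, pow_mul, neg_one_sq, one_pow, one_mul] at hdet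
    exact h2 (by linear_combination -hdet)

/-- `PΩ_(2m+1)` has `m` pairwise non-conjugate involutions. -/
theorem exists_involutions (h2 : (2 : F) ≠ 0) (hm : 3 ≤ m) :
    ∃ X : Fin m → Cfsg.POmega F (Cfsg.quadFormOdd m F),
      (∀ k, orderOf (X k) = 2) ∧ ∀ i j, IsConj (X i) (X j) → i = j := by
  classical
  let iso := isoOrth (qOddFn (F := F) m) (qOddFn_apply m)
  have hiff := fun g => mem_Omega_iff_orth (qOddFn (F := F) m) (qOddFn_apply m) g
  have hsel := fun k : Fin m => exists_selection (F := F) (m := m) (k := k.1 + 1) (by omega) (by omega)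
  choose s hs hsq using hsel
  have hmem := fun k : Fin m => selProd_mem h2 (by omega) (s k) (even_two_mul _) (hsq k)
  let g : Fin m → Cfsg.Omega F (Cfsg.quadFormOdd m F) := fun k =>
    ⟨iso.symm (selProd m F (s k)), (hiff _).2 (by rw [MulEquiv.apply_symm_apply]; exact hmem k)⟩
  have hcen : ∀ w, w ∈ Subgroup.center (Cfsg.Omega F (Cfsg.quadFormOdd m F)) → w = 1 := by
    intro w hw
    have h1 : iso w.1 = 1 := center_commutator_trivial h2 hm ((hiff _).1 w.2) (by
      intro a ha
      obtain ⟨a', rfl⟩ := iso.surjective a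
      have h := congrArg Subtype.val (Subgroup.mem_center_iff.1 hw ⟨a', (hiff _).2 ha⟩)
      rw [← map_mul, ← map_mul]
      exact congrArg iso h)
    exact Subtype.ext (iso.injective (h1.trans (map_one iso).symm))
  have hinj : Function.Injective (QuotientGroup.mk' (Subgroup.center (Cfsg.Omega F (Cfsg.quadFormOdd m F)))) := by
    rw [← MonoidHom.ker_eq_bot_iff, QuotientGroup.ker_mk', Subgroup.eq_bot_iff_forall]
    exact hcen
  refine ⟨fun k => QuotientGroup.mk' _ (g k), fun k => ?_, fun i j hij => ?_⟩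
  · rw [orderOf_injective _ hinj, ← orderOf_injective (Subgroup.subtype _) Subtype.val_injective]
    show orderOf (iso.symm (selProd m F (s k))) = 2
    rw [MulEquiv.orderOf_eq]
    apply orderOf_eq_prime
    · -- the product is `-1` on the span and `1` on its orthogonal
      have hsqz : ∀ l : List (Unit ⊕ (Fin m ⊕ Fin m) → F), (∀ v ∈ l, qOddFn (F := F) m v ≠ 0) →
          l.Pairwise (fun v w => polar (qOddFn (F := F) m) v w = 0) →
          oreflProd (qOddFn (F := F) m) l ^ 2 = 1 := by
        intro l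
        induction l with
        | nil => intro _ _; simp [oreflProd_nil]
        | cons v l ih =>
          intro hl hp
          rw [List.pairwise_cons] at hp
          have hcomm : Commute (orefl (qOddFn (F := F) m) v) (oreflProd (qOddFn (F := F) m) l) := by
            have : (oreflProd (qOddFn (F := F) m) l).1 v = v :=
              oreflProd_fix l fun u hu => (polar_comm _ _ _).trans (hp.1 u hu)
            have hc := refl_conj (oreflProd (qOddFn (F := F) m) l).2 v
            rw [this] at hc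
            apply Subtype.ext
            show refl _ v * (oreflProd (qOddFn (F := F) m) l).1 = (oreflProd (qOddFn (F := F) m) l).1 * refl _ v
            conv_lhs => rw [← hc]
            group
          rw [oreflProd_cons, hcomm.mul_pow, ih (fun u hu => hl u (List.mem_cons_of_mem _ hu)) hp.2,
            mul_one, _root_.sq]
          exact Subtype.ext (refl_mul_self _ _)
      refine hsqz _ ?_ (List.pairwise_ofFn.2 fun a b h => polar_fam ((hs k).ne h.ne))
      intro v hv
      obtain ⟨a, rfl⟩ := List.mem_ofFn.1 hv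
      rw [qOddFn_fam]; exact famVal_ne _
    · intro h1
      have h := finrank_negOf_selProd h2 (s k) (hs k)
      rw [show negOf (selProd m F (s k)) = ⊥ by
        rw [Submodule.eq_bot_iff]
        intro v hv
        rw [mem_negOf, h1] at hv
        have : (2 : F) • v = 0 := by
          rw [two_smul]; nth_rw 1 [show v = -v from hv]; simp
        exact (smul_eq_zero.1 this).resolve_left h2, finrank_bot] at h
      omega
  · obtain ⟨c, hc⟩ := isConj_iff.1 hij
    obtain ⟨c', rfl⟩ := QuotientGroup.mk'_surjective _ c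
    rw [← map_inv, ← map_mul, ← map_mul] at hc
    have h' := congrArg (fun w : Cfsg.Omega F (Cfsg.quadFormOdd m F) => iso w.1) (hinj hc)
    simp only [Subgroup.coe_mul, Subgroup.coe_inv, map_mul, map_inv, g,
      MulEquiv.apply_symm_apply] at h'
    have hd := finrank_negOf_eq_of_isConj (isConj_iff.2 ⟨_, h'⟩)
    rw [finrank_negOf_selProd h2 _ (hs i), finrank_negOf_selProd h2 _ (hs j)] at hd
    exact Fin.ext (by omega)

end Model

end Cfsg.Agent.Lib.ClassicalIso
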