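/-
Conjugacy of involutions in projective symplectic groups in odd characteristic:
lifts with square `-1` form one class, lifts with square `1` are determined by the fixed space.
-/
import Cfsg.Agent.Lib.Symplectic.Std
import Cfsg.Agent.Lib.Forms.Quad

set_option autoImplicit false

namespace Cfsg.Agent.Lib.ClassicalIso

open Module
open Cfsg.Agent.Lib.Symplectic

universe u

variable {F : Type*} [Field F]

/-- A vector `u` with `B u (x u) = 1` for an isometry `x` with square `-1`. -/
theorem exists_one_of_anti [Finite F] (h2 : (2 : F) ≠ 0) {V : Type u} [AddCommGroup V] [Module F V]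
    [FiniteDimensional F V] {B : V →ₗ[F] V →ₗ[F] F} (hB : IsSympForm B) (x : V →ₗ[F] V)
    (hx : ∀ u v, B (x u) (x v) = B u v) (hxx : ∀ u, x (x u) = -u) (hn : 2 ≤ finrank F V) :
    ∃ u, B u (x u) = 1 := by
  let bil : LinearMap.BilinForm F V := B.compl₂ x
  have hsymm : ∀ u v, bil u v = bil v u := by
    intro u v
    show B u (x v) = B v (x u)
    rw [← hx v (x u), hxx, map_neg, hB.swap u (x v)]
  let Q : QuadraticForm F V := LinearMap.BilinMap.toQuadraticMap bil
  have hQ : Cfsg.Agent.Lib.Forms.Nondeg Q := by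
    intro a ha
    apply hB.nondeg
    intro b
    have h := ha (-(x b))
    rw [LinearMap.BilinMap.polar_toQuadraticMap, ← hsymm a] at h
    have h' : bil a (-(x b)) = B a b := by
      show B a (x (-(x b))) = B a b
      rw [map_neg, hxx, neg_neg]
    rw [h', ← two_mul] at h
    exact (mul_eq_zero.1 h).resolve_left h2
  obtain ⟨u, hu⟩ := Cfsg.Agent.Lib.Forms.exists_Q_eq hQ hn 1
  exact ⟨u, hu⟩

section Split

variable {V : Type u} [AddCommGroup V] [Module F V] {B : V →ₗ[F] V →ₗ[F] F}

theorem anti_mem_pairPerp (hB : IsSympForm B) (x : V →ₗ[F] V)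
    (hx : ∀ u v, B (x u) (x v) = B u v) (hxx : ∀ u, x (x u) = -u) {u w : V}
    (hw : w ∈ pairPerp B u (x u)) : x w ∈ pairPerp B u (x u) := by
  rw [mem_pairPerp] at hw ⊢
  refine ⟨?_, by rw [hx, hw.1]⟩
  have h : B (x u) (x (x w)) = B u (x w) := hx u (x w)
  rw [← h, hxx, map_neg, hw.2, neg_zero]

theorem anti_symm_apply (hB : IsSympForm B) (x : V →ₗ[F] V) (hxx : ∀ u, x (x u) = -u) {u : V}
    (hu : B u (x u) = 1) (p : (F × F) × pairPerp B u (x u)) :
    x ((pairSplit hB hu).symm p) = (-p.1.2) • u + p.1.1 • x u + x (p.2 : V) := by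
  show x (p.1.1 • u + p.1.2 • x u + (p.2 : V)) = _
  rw [map_add, map_add, map_smul, map_smul, hxx, smul_neg, neg_smul]
  abel

theorem split_form (hB : IsSympForm B) {u v : V} (hu : B u v = 1)
    (p p' : (F × F) × pairPerp B u v) :
    B ((pairSplit hB hu).symm p) ((pairSplit hB hu).symm p') =
      p.1.1 * p'.1.2 - p.1.2 * p'.1.1 + B (p.2 : V) (p'.2 : V) := by
  obtain ⟨⟨a, b⟩, w⟩ := p
  obtain ⟨⟨a', b'⟩, w'⟩ := p'
  show B (a • u + b • v + (w : V)) (a' • u + b' • v + (w' : V)) = _
  simp only [map_add, map_smul, LinearMap.add_apply, LinearMap.smul_apply, smul_eq_mul, hB.self,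
    hB.swap v u, hu, perp_apply_left hB w, (mem_pairPerp.1 w'.2).1, (mem_pairPerp.1 w'.2).2,
    mul_zero, add_zero, zero_add, mul_one, mul_neg]
  ring

end Split

/-- Isometries with square `-1` in equal dimensions are conjugate. -/
theorem exists_conj_anti [Finite F] (h2 : (2 : F) ≠ 0) :
    ∀ (d : ℕ) {V : Type u} [AddCommGroup V] [Module F V] [FiniteDimensional F V]
      {W : Type u} [AddCommGroup W] [Module F W] [FiniteDimensional F W]
      {B : V →ₗ[F] V →ₗ[F] F} {B' : W →ₗ[F] W →ₗ[F] F},
      IsSympForm B → IsSympForm B' → finrank F V = d → finrank F W = d →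
      ∀ (x : V →ₗ[F] V) (y : W →ₗ[F] W),
        (∀ u v, B (x u) (x v) = B u v) → (∀ u, x (x u) = -u) →
        (∀ u v, B' (y u) (y v) = B' u v) → (∀ u, y (y u) = -u) →
        ∃ φ : V ≃ₗ[F] W, (∀ u v, B' (φ u) (φ v) = B u v) ∧ ∀ u, φ (x u) = y (φ u) := by
  intro d
  induction d using Nat.strong_induction_on with
  | h d ih =>
    intro V _ _ _ W _ _ _ B B' hB hB' hV hW x y hx hxx hy hyy
    obtain ⟨k, hk⟩ := Cfsg.Agent.Lib.Symplectic.even_finrank hB
    rcases Nat.eq_zero_or_pos d with rfl | hd
    · have : Subsingleton V := finrank_zero_iff.1 hV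
      have : Subsingleton W := finrank_zero_iff.1 hW
      exact ⟨LinearEquiv.ofSubsingleton V W, fun u v => by
        rw [Subsingleton.elim u 0]; simp [Subsingleton.elim (LinearEquiv.ofSubsingleton (R := F) V W 0) 0],
        fun u => Subsingleton.elim _ _⟩
    · obtain ⟨u, hu⟩ := exists_one_of_anti h2 hB x hx hxx (by omega)
      obtain ⟨u', hu'⟩ := exists_one_of_anti h2 hB' y hy hyy (by omega)
      set x' : pairPerp B u (x u) →ₗ[F] pairPerp B u (x u) :=
        x.restrict fun w hw => anti_mem_pairPerp hB x hx hxx hw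
      set y' : pairPerp B' u' (y u') →ₗ[F] pairPerp B' u' (y u') :=
        y.restrict fun w hw => anti_mem_pairPerp hB' y hy hyy hw
      have hf := finrank_pairPerp hB hu
      have hf' := finrank_pairPerp hB' hu'
      obtain ⟨ψ, hψ, hψx⟩ := ih (finrank F (pairPerp B u (x u))) (by omega)
        (restr_pairPerp hB hu) (restr_pairPerp hB' hu') rfl (by omega) x' y'
        (fun a b => hx a b) (fun a => Subtype.ext (hxx a))
        (fun a b => hy a b) (fun a => Subtype.ext (hyy a))
      let e₁ := pairSplit hB hu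
      let e₂ := pairSplit hB' hu'
      refine ⟨(e₁.trans ((LinearEquiv.refl F (F × F)).prodCongr ψ)).trans e₂.symm,
        fun a b => ?_, fun a => ?_⟩
      · obtain ⟨p, rfl⟩ := e₁.symm.surjective a
        obtain ⟨p', rfl⟩ := e₁.symm.surjective b
        simp only [LinearEquiv.trans_apply, LinearEquiv.apply_symm_apply,
          LinearEquiv.prodCongr_apply, LinearEquiv.refl_apply]
        simp only [e₁, e₂, split_form]
        congr 1
        exact hψ p.2 p'.2
      · obtain ⟨p, rfl⟩ := e₁.symm.surjective a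
        have key : e₁ (x (e₁.symm p)) = ((-p.1.2, p.1.1), x' p.2) := by
          rw [anti_symm_apply hB x hxx hu]
          exact e₁.eq_symm_apply.1 (show _ = e₁.symm _ from rfl)
        simp only [LinearEquiv.trans_apply, key, LinearEquiv.apply_symm_apply,
          LinearEquiv.prodCongr_apply, LinearEquiv.refl_apply]
        show e₂.symm ((-p.1.2, p.1.1), ψ (x' p.2)) = y (e₂.symm (p.1, ψ p.2))
        rw [anti_symm_apply hB' y hyy hu', hψx]
        rfl

/-! ### Square one -/

section Refl

variable {V : Type u} [AddCommGroup V] [Module F V] [FiniteDimensional F V]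
  {B : V →ₗ[F] V →ₗ[F] F}

/-- Fixed space of a linear map. -/
abbrev fixSp (x : V →ₗ[F] V) : Submodule F V := LinearMap.ker (x - LinearMap.id)

/-- Negated space of a linear map. -/
abbrev negSp (x : V →ₗ[F] V) : Submodule F V := LinearMap.ker (x + LinearMap.id)

theorem mem_fixSp {x : V →ₗ[F] V} {v : V} : v ∈ fixSp x ↔ x v = v := by
  simp [sub_eq_zero]

theorem mem_negSp {x : V →ₗ[F] V} {v : V} : v ∈ negSp x ↔ x v = -v := by
  simp [add_eq_zero_iff_eq_neg]

theorem fix_neg_orth (h2 : (2 : F) ≠ 0) (x : V →ₗ[F] V) (hx : ∀ u v, B (x u) (x v) = B u v)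
    {p n : V} (hp : p ∈ fixSp x) (hn : n ∈ negSp x) : B p n = 0 ∧ B n p = 0 := by
  rw [mem_fixSp] at hp
  rw [mem_negSp] at hn
  constructor
  · have h := hx p n
    rw [hp, hn, map_neg] at h
    exact (mul_eq_zero.1 (show (2 : F) * B p n = 0 by linear_combination -h)).resolve_left h2
  · have h := hx n p
    rw [hp, hn, map_neg, LinearMap.neg_apply] at h
    exact (mul_eq_zero.1 (show (2 : F) * B n p = 0 by linear_combination -h)).resolve_left h2

theorem isCompl_fix_neg (h2 : (2 : F) ≠ 0) (x : V →ₗ[F] V) (hxx : ∀ u, x (x u) = u) :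
    IsCompl (fixSp x) (negSp x) := by
  constructor
  · rw [Submodule.disjoint_def]
    intro v hp hn
    rw [mem_fixSp] at hp
    rw [mem_negSp, hp] at hn
    exact (smul_eq_zero.1 (show (2 : F) • v = 0 by rw [two_smul]; nth_rw 1 [hn]; simp)).resolve_left h2
  · rw [codisjoint_iff, Submodule.eq_top_iff']
    intro v
    refine Submodule.mem_sup.2 ⟨(2⁻¹ : F) • (v + x v), ?_, (2⁻¹ : F) • (v - x v), ?_, ?_⟩
    · rw [mem_fixSp, map_smul, map_add, hxx, add_comm]
    · rw [mem_negSp, map_smul, map_sub, hxx, ← smul_neg, neg_sub]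
    · rw [← smul_add, show v + x v + (v - x v) = (2 : F) • v by rw [two_smul]; abel, smul_smul,
        inv_mul_cancel₀ h2, one_smul]

theorem isSymp_fix (h2 : (2 : F) ≠ 0) (hB : IsSympForm B) (x : V →ₗ[F] V)
    (hx : ∀ u v, B (x u) (x v) = B u v) (hxx : ∀ u, x (x u) = u) :
    IsSympForm (restr B (fixSp x)) ∧ IsSympForm (restr B (negSp x)) := by
  have hc := isCompl_fix_neg h2 x hxx
  refine ⟨⟨fun w => hB.self _, fun w hw => Subtype.ext (hB.nondeg _ fun v => ?_)⟩,
    ⟨fun w => hB.self _, fun w hw => Subtype.ext (hB.nondeg _ fun v => ?_)⟩⟩ <;>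
    (have hv : v ∈ fixSp x ⊔ negSp x := by rw [hc.sup_eq_top]; trivial
     obtain ⟨p, hp, n, hn, rfl⟩ := Submodule.mem_sup.1 hv
     rw [map_add])
  · rw [(fix_neg_orth h2 x hx w.2 hn).1, show B (w : V) p = 0 from hw ⟨p, hp⟩, add_zero]
  · rw [(fix_neg_orth h2 x hx hp w.2).2, show B (w : V) n = 0 from hw ⟨n, hn⟩, add_zero]

theorem finrank_fix_add_neg (h2 : (2 : F) ≠ 0) (x : V →ₗ[F] V) (hxx : ∀ u, x (x u) = u) :
    finrank F (fixSp x) + finrank F (negSp x) = finrank F V :=
  Submodule.finrank_add_eq_of_isCompl (isCompl_fix_neg h2 x hxx)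

/-- Isometries with square one and fixed spaces of equal dimension are conjugate. -/
theorem exists_conj_refl (h2 : (2 : F) ≠ 0) (hB : IsSympForm B) (x y : V →ₗ[F] V)
    (hx : ∀ u v, B (x u) (x v) = B u v) (hxx : ∀ u, x (x u) = u)
    (hy : ∀ u v, B (y u) (y v) = B u v) (hyy : ∀ u, y (y u) = u)
    (hdim : finrank F (fixSp x) = finrank F (fixSp y)) :
    ∃ φ : V ≃ₗ[F] V, (∀ u v, B (φ u) (φ v) = B u v) ∧ ∀ u, φ (x u) = y (φ u) := by
  have hn : finrank F (negSp x) = finrank F (negSp y) := by
    have := finrank_fix_add_neg h2 x hxx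
    have := finrank_fix_add_neg h2 y hyy
    omega
  obtain ⟨eP, hP⟩ := exists_isometry (isSymp_fix h2 hB x hx hxx).1 (isSymp_fix h2 hB y hy hyy).1 hdim
  obtain ⟨eN, hN⟩ := exists_isometry (isSymp_fix h2 hB x hx hxx).2 (isSymp_fix h2 hB y hy hyy).2 hn
  let s₁ := Submodule.prodEquivOfIsCompl _ _ (isCompl_fix_neg h2 x hxx)
  let s₂ := Submodule.prodEquivOfIsCompl _ _ (isCompl_fix_neg h2 y hyy)
  refine ⟨(s₁.symm.trans (eP.prodCongr eN)).trans s₂, fun a b => ?_, fun a => ?_⟩
  · obtain ⟨⟨p, n⟩, rfl⟩ := s₁.surjective a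
    obtain ⟨⟨p', n'⟩, rfl⟩ := s₁.surjective b
    simp only [LinearEquiv.trans_apply, LinearEquiv.symm_apply_apply, LinearEquiv.prodCongr_apply]
    simp only [s₁, s₂, Submodule.coe_prodEquivOfIsCompl', map_add, LinearMap.add_apply]
    rw [(fix_neg_orth h2 y hy (eP p).2 (eN n').2).1, (fix_neg_orth h2 y hy (eP p').2 (eN n).2).2,
      (fix_neg_orth h2 x hx p.2 n'.2).1, (fix_neg_orth h2 x hx p'.2 n.2).2,
      show B (eP p : V) (eP p' : V) = B (p : V) p' from hP p p',
      show B (eN n : V) (eN n' : V) = B (n : V) n' from hN n n']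
  · obtain ⟨⟨p, n⟩, rfl⟩ := s₁.surjective a
    have hxa : x (s₁ (p, n)) = s₁ (p, -n) := by
      simp only [s₁, Submodule.coe_prodEquivOfIsCompl', map_add, Submodule.coe_neg]
      rw [mem_fixSp.1 p.2, mem_negSp.1 n.2]
    rw [hxa]
    simp only [LinearEquiv.trans_apply, LinearEquiv.symm_apply_apply, LinearEquiv.prodCongr_apply,
      map_neg]
    simp only [s₂, Submodule.coe_prodEquivOfIsCompl', map_add, Submodule.coe_neg]
    rw [mem_fixSp.1 (eP p).2, mem_negSp.1 (eN n).2]

end Refl

/-! ### Classes in `PSp` -/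

variable [Finite F]

/-- `PSp_2m` in odd characteristic has at most `m / 2 + 1` classes of involutions. -/
theorem exists_class_invariant (h2 : (2 : F) ≠ 0) (m : ℕ) :
    ∃ t : Cfsg.PSp m F → Fin (m / 2 + 1),
      ∀ X Y, orderOf X = 2 → orderOf Y = 2 → t X = t Y → IsConj X Y := by
  classical
  let B := stdForm m F
  have hB : IsSympForm B := isSympForm_stdForm m F
  let π : Isom B →* Isom B ⧸ Subgroup.center (Isom B) := QuotientGroup.mk' _
  let lm : Isom B → ((Fin m ⊕ Fin m → F) →ₗ[F] (Fin m ⊕ Fin m → F)) := fun g => g.1.toLinearMap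
  -- conjugacy of lifts
  have hconj : ∀ (g h : Isom B) (φ : (Fin m ⊕ Fin m → F) ≃ₗ[F] (Fin m ⊕ Fin m → F)),
      (∀ u v, B (φ u) (φ v) = B u v) → (∀ u, φ (lm g u) = lm h (φ u)) → IsConj (π g) (π h) := by
    intro g h φ hφ hgh
    rw [isConj_iff]
    refine ⟨π ⟨φ, hφ⟩, ?_⟩
    have e : (⟨φ, hφ⟩ : Isom B) * g = h * ⟨φ, hφ⟩ := isom_ext fun v => hgh v
    rw [← map_mul, ← map_inv, ← map_mul, e, mul_inv_cancel_right]
  have hneg : π (negIsom B) = 1 := (QuotientGroup.eq_one_iff _).2 negIsom_mem_center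
  have hdata : ∀ g : Isom B, orderOf (π g) = 2 →
      (∀ v, lm g (lm g v) = -v) ∨
      ((∀ v, lm g (lm g v) = v) ∧ ∃ j, 1 ≤ j ∧ j < m ∧ finrank F (fixSp (lm g)) = 2 * j) := by
    intro g hg
    have hsq : g * g ∈ Subgroup.center (Isom B) := by
      rw [← QuotientGroup.eq_one_iff]
      show π (g * g) = 1
      rw [map_mul, ← sq, ← hg, pow_orderOf_eq_one]
    have hcen : ∀ v : Fin m ⊕ Fin m → F, g • g • v = v ∨ g • g • v = -v := by
      have : g * g ∈ ({1, negIsom B} : Set (Isom B)) := by rw [← center_isom hB]; exact hsq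
      rcases this with h | h <;> intro v <;> rw [← mul_smul, h]
      · exact Or.inl (one_smul _ v)
      · exact Or.inr (negIsom_smul v)
    have hmem : g * g ∈ ({1, negIsom B} : Set (Isom B)) := by rw [← center_isom hB]; exact hsq
    rcases hmem with h | h
    · right
      have hxx : ∀ v, lm g (lm g v) = v := fun v => by
        show g • g • v = v
        rw [← mul_smul, h, one_smul]
      refine ⟨hxx, ?_⟩
      obtain ⟨j, hj⟩ := Cfsg.Agent.Lib.Symplectic.even_finrank
        (isSymp_fix h2 hB (lm g) (fun u v => g.2 u v) hxx).1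
      have hsum := finrank_fix_add_neg h2 (lm g) hxx
      rw [finrank_std] at hsum
      have h1 : π g ≠ 1 := fun h1 => by rw [h1, orderOf_one] at hg; omega
      refine ⟨j, ?_, ?_, by omega⟩
      · rcases Nat.eq_zero_or_pos j with rfl | hj0
        · exfalso
          apply h1
          have htop : negSp (lm g) = ⊤ := Submodule.eq_top_of_finrank_eq (by rw [finrank_std]; omega)
          have : g = negIsom B := isom_ext fun v => by
            rw [negIsom_smul]; exact mem_negSp.1 (htop ▸ Submodule.mem_top)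
          rw [this, hneg]
        · exact hj0
      · rcases Nat.lt_or_ge j m with hjm | hjm
        · exact hjm
        · exfalso
          apply h1
          have htop : fixSp (lm g) = ⊤ := Submodule.eq_top_of_finrank_eq (by rw [finrank_std]; omega)
          have : g = 1 := isom_ext fun v => by
            rw [one_smul]; exact mem_fixSp.1 (htop ▸ Submodule.mem_top)
          rw [this, map_one]
    · exact Or.inl fun v => by
        show g • g • v = -v
        rw [← mul_smul, h, negIsom_smul]
  let e := pspEquiv m F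
  choose L hL using fun X : Cfsg.PSp m F => QuotientGroup.mk'_surjective (Subgroup.center (Isom B)) (e X)
  let code : Cfsg.PSp m F → ℕ := fun X =>
    if ∀ v, lm (L X) (lm (L X) v) = -v then 0
    else min (finrank F (fixSp (lm (L X))) / 2) (m - finrank F (fixSp (lm (L X))) / 2)
  refine ⟨fun X => ⟨code X, ?_⟩, fun X Y hX hY hXY => ?_⟩
  · simp only [code]
    split_ifs <;> omega
  · have hord : ∀ Z, orderOf Z = 2 → orderOf (π (L Z)) = 2 := fun Z hZ => by
      show orderOf (QuotientGroup.mk' _ (L Z)) = 2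
      rw [hL, MulEquiv.orderOf_eq, hZ]
    have hXY' : code X = code Y := congrArg Fin.val hXY
    suffices h : IsConj (π (L X)) (π (L Y)) by
      have h' : IsConj (e X) (e Y) := by
        rw [← hL X, ← hL Y]; exact h
      rw [← e.symm_apply_apply X, ← e.symm_apply_apply Y]
      exact MonoidHom.map_isConj e.symm.toMonoidHom h'
    have hisom : ∀ g : Isom B, ∀ u v, B (lm g u) (lm g v) = B u v := fun g u v => g.2 u v
    have hne : ∀ (g : Isom B), (∀ v, lm g (lm g v) = v) → 1 ≤ m → ¬ ∀ v, lm g (lm g v) = -v := by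
      intro g hg hm hcon
      have := (hg (Pi.single (Sum.inl ⟨0, hm⟩) 1)).symm.trans (hcon _)
      have h' := congrFun this (Sum.inl ⟨0, hm⟩)
      simp only [Pi.single_eq_same, Pi.neg_apply] at h'
      exact h2 (by linear_combination h')
    rcases hdata _ (hord X hX) with hx | ⟨hx, j, hj1, hjm, hjd⟩
    · rcases hdata _ (hord Y hY) with hy | ⟨hy, i, hi1, him, hid⟩
      · obtain ⟨φ, hφ, hφx⟩ := exists_conj_anti h2 _ hB hB rfl rfl (lm (L X)) (lm (L Y))
          (hisom _) hx (hisom _) hy
        exact hconj _ _ φ hφ hφx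
      · exfalso
        simp only [code, if_pos hx, if_neg (hne _ hy (by omega)), hid] at hXY'
        omega
    · rcases hdata _ (hord Y hY) with hy | ⟨hy, i, hi1, him, hid⟩
      · exfalso
        simp only [code, if_pos hy, if_neg (hne _ hx (by omega)), hjd] at hXY'
        omega
      · simp only [code, if_neg (hne _ hx (by omega)), if_neg (hne _ hy (by omega)), hjd, hid,
          Nat.mul_div_cancel_left _ two_pos] at hXY'
        rcases (show i = j ∨ i + j = m by omega) with rfl | hij
        · obtain ⟨φ, hφ, hφx⟩ := exists_conj_refl h2 hB (lm (L X)) (lm (L Y))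
            (hisom _) hx (hisom _) hy (by rw [hjd, hid])
          exact hconj _ _ φ hφ hφx
        · -- replace the second lift by its negative
          set g := negIsom B * L Y
          have hlm : ∀ v, lm g v = -(lm (L Y) v) := fun v => by
            show (negIsom B * L Y) • v = -(L Y • v)
            rw [mul_smul, negIsom_smul]
          have hgg : ∀ v, lm g (lm g v) = v := fun v => by
            rw [hlm, hlm, map_neg, neg_neg, hy]
          have hfix : fixSp (lm g) = negSp (lm (L Y)) := by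
            ext v
            rw [mem_fixSp, mem_negSp, hlm, neg_eq_iff_eq_neg]
          have hsum := finrank_fix_add_neg h2 (lm (L Y)) hy
          rw [finrank_std, hid] at hsum
          obtain ⟨φ, hφ, hφx⟩ := exists_conj_refl h2 hB (lm (L X)) (lm g)
            (hisom _) hx (hisom _) hgg (by rw [hjd, hfix]; omega)
          have := hconj _ _ φ hφ hφx
          rwa [show π g = π (L Y) by rw [map_mul, hneg, one_mul]] at this

end Cfsg.Agent.Lib.ClassicalIso
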